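import Cfsg.Agent.Lib.Uniq.PGroup
import Cfsg.Agent.Lib.OddLocal.SCN
import Cfsg.Agent.Lib.Components.Signalizer
import Cfsg.Agent.Lib.Transfer.Alperin
import Cfsg.Agent.Lib.OddLocal.CoprimeOdd
set_option autoImplicit false

/-! Alperin's lemma on maximal normal elementary abelian subgroups; existence of `SCN₃`. -/

namespace Cfsg.Agent.Lib.Uniq

open Subgroup
open scoped commutatorElement
open Cfsg.Agent.Lib.OddLocal

variable {R : Type*} [Group R] [Finite R] {p : ℕ} [hp : Fact p.Prime]

/-- If commutators of order `p` are central, products of elements of order `p` have order dividing `p`. -/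
theorem mul_pow_eq_one (hp2 : p ≠ 2) (hR : IsPGroup p R) {L : Subgroup R}
    (hcomm : ∀ a b : R, ⁅a, b⁆ ∈ L → ⁅a, b⁆ ^ p = 1 → ∀ x, x ^ p = 1 → x ∈ closure ({a, b} : Set R) →
      Commute ⁅a, b⁆ x) :
    ∀ a b : R, a ^ p = 1 → b ^ p = 1 → (∀ u ∈ closure ({a, b} : Set R),
      ∀ v ∈ closure ({a, b} : Set R), ⁅u, v⁆ ∈ L) → (a * b) ^ p = 1 := by
  intro a b
  induction hn : Nat.card (closure ({a, b} : Set R)) using Nat.strong_induction_on generalizing a b with
  | _ n ih =>
  subst hn
  intro ha hb hL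
  set U := closure ({a, b} : Set R) with hU
  have haU : a ∈ U := subset_closure (by simp)
  have hbU : b ∈ U := subset_closure (by simp)
  by_cases hc : Commute a b
  · rw [hc.mul_pow, ha, hb, one_mul]
  -- `a` and `b a b⁻¹` lie in a maximal subgroup of `U`
  have hne : (zpowers (⟨a, haU⟩ : U)) ≠ ⊤ := by
    intro h
    obtain ⟨i, hi⟩ := mem_zpowers_iff.mp (h.ge (mem_top (⟨b, hbU⟩ : U)))
    have hib : a ^ i = b := by simpa using congrArg Subtype.val hi
    exact hc (hib ▸ (Commute.refl a).zpow_right i)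
  obtain ⟨V, hV, haV⟩ := (eq_top_or_exists_le_coatom _).resolve_left hne
  haveI : Group.IsNilpotent U := (hR.to_subgroup U).isNilpotent
  haveI : V.Normal := NormalizerCondition.normal_of_coatom V Group.normalizerCondition_of_isNilpotent hV
  have haV' : (⟨a, haU⟩ : U) ∈ V := haV (mem_zpowers _)
  set a' := b * a⁻¹ * b⁻¹ with ha'
  have hle : closure ({a, a'} : Set R) ≤ V.map U.subtype := by
    rw [closure_le]
    rintro x (rfl | rfl)
    · exact ⟨_, haV', rfl⟩
    · exact ⟨⟨b, hbU⟩ * ⟨a, haU⟩⁻¹ * ⟨b, hbU⟩⁻¹,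
        Subgroup.Normal.conj_mem inferInstance _ (inv_mem haV') _, rfl⟩
  have hsub : closure ({a, a'} : Set R) ≤ U := hle.trans (map_subtype_le V)
  have hlt : Nat.card (closure ({a, a'} : Set R)) < Nat.card U := by
    refine lt_of_le_of_lt (card_le_of_le hle) ?_
    rw [card_map_of_injective U.subtype_injective]
    exact Coprime.card_lt_of_ne_top hV.1
  have h1 := ih _ hlt a a' rfl ha (by rw [ha', conj_pow, inv_pow, ha]; simp)
    (fun u hu v hv => hL u (hsub hu) v (hsub hv))
  have hz : ⁅a, b⁆ = a * a' := by simp [ha', commutatorElement_def, mul_assoc]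
  rw [← hz] at h1
  have hzc : ∀ x ∈ U, x ^ p = 1 → Commute ⁅a, b⁆ x := fun x hx hxp =>
    hcomm a b (hL a haU b hbU) h1 x hxp hx
  set z := ⁅b, a⁆ with hzdef
  have hzinv : z = ⁅a, b⁆⁻¹ := (commutatorElement_inv a b).symm
  have hrel : b * a = z * a * b := by simp [hzdef, commutatorElement_def, mul_assoc]
  obtain ⟨-, h3⟩ := mul_pow_of_central_commutator
    (by rw [hzinv]; exact (hzc a haU ha).inv_left) (by rw [hzinv]; exact (hzc b hbU hb).inv_left) hrel p
  obtain ⟨c, hc'⟩ : p ∣ p.choose 2 := Nat.Prime.dvd_choose_self hp.out two_ne_zero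
    (lt_of_le_of_ne hp.out.two_le (Ne.symm hp2))
  rw [h3, ha, hb, hc', hzinv, inv_pow, pow_mul, h1, one_pow, inv_one, one_mul, one_mul]

/-- A normal elementary abelian subgroup that is not the set of elements of order `p` of its centralizer
is properly contained in another. -/
theorem exists_larger_normal_elementary (hp2 : p ≠ 2) (hR : IsPGroup p R) (E : Subgroup R) [E.Normal]
    (hE : IsElementaryAbelian p E) {y : R} (hy : y ∈ centralizer (E : Set R)) (hyp : y ^ p = 1)
    (hyE : y ∉ E) : ∃ W : Subgroup R, W.Normal ∧ IsElementaryAbelian p W ∧ E < W := by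
  set C := centralizer (E : Set R)
  haveI : C.Normal := inferInstance
  obtain ⟨N, -, hN⟩ := exists_minimal_le_of_wellFoundedLT
    (fun N : Subgroup R => N.Normal ∧ N ≤ C ∧ ∃ y ∈ N, y ^ p = 1 ∧ y ∉ E) C
    ⟨inferInstance, le_rfl, y, hy, hyp, hyE⟩
  obtain ⟨hNn, hNC, x, hxN, hxp, hxE⟩ := hN.prop
  haveI := hNn
  set L := ⁅N, (⊤ : Subgroup R)⁆ with hL
  haveI : Group.IsNilpotent R := hR.isNilpotent
  have hLN : L ≤ N := commutator_le_left N ⊤
  have hLne : L ≠ N := fun h => hxE (by
    have := Transfer.eq_bot_of_le_commutator_top h.ge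
    rw [this, mem_bot] at hxN
    exact hxN ▸ one_mem E)
  have hLE : ∀ z ∈ L, z ^ p = 1 → z ∈ E := fun z hz hzp => by
    by_contra hzE
    exact hLne (le_antisymm hLN (hN.le_of_le ⟨inferInstance, hLN.trans hNC, z, hz, hzp, hzE⟩ hLN))
  have hgx : ∀ g : R, g * x * g⁻¹ * x⁻¹ ∈ E := by
    intro g
    have hgN : g * x * g⁻¹ ∈ N := hNn.conj_mem x hxN g
    have hmem : g * x * g⁻¹ * x⁻¹ ∈ L := by
      show ⁅g, x⁆ ∈ L
      rw [hL, commutator_comm]
      exact commutator_mem_commutator (mem_top g) hxN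
    refine hLE _ hmem ?_
    let N' : Subgroup R := N
    have hp' := mul_pow_eq_one hp2 (hR.to_subgroup N) (L := L.subgroupOf N)
      (fun a b hab habp v _ _ => by
        have he : ((⁅a, b⁆ : N) : R) ∈ E := hLE _ (mem_subgroupOf.mp hab)
          (by simpa using congrArg Subtype.val habp)
        exact Subtype.ext (mem_centralizer_iff.mp (hNC v.2) _ he))
      ⟨g * x * g⁻¹, hgN⟩ ⟨x⁻¹, inv_mem hxN⟩
      (Subtype.ext (by simp [conj_pow, hxp])) (Subtype.ext (by simp [hxp]))
      (fun u _ v _ => mem_subgroupOf.mpr (by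
        simpa [commutatorElement_def] using
          (commutator_mem_commutator u.2 (mem_top (v : R)) : ⁅(u : R), (v : R)⁆ ∈ L)))
    simpa using congrArg Subtype.val hp'
  have hxC : x ∈ C := hNC hxN
  refine ⟨E ⊔ zpowers x, ⟨fun w hw g => ?_⟩, ⟨?_, ?_⟩, ?_⟩
  · have hle : E ⊔ zpowers x ≤ (E ⊔ zpowers x).comap (MulAut.conj g).toMonoidHom := by
      refine sup_le (fun a ha => mem_sup_left (Subgroup.Normal.conj_mem inferInstance a ha g))
        (zpowers_le.mpr ?_)
      show g * x * g⁻¹ ∈ E ⊔ zpowers x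
      have := mul_mem (mem_sup_left (T := zpowers x) (hgx g)) (mem_sup_right (mem_zpowers x))
      simpa using this
    exact hle hw
  · rw [← le_centralizer_iff_isMulCommutative]
    have h1 : zpowers x ≤ centralizer (E : Set R) := zpowers_le.mpr hxC
    refine sup_le ?_ ?_ <;> rw [le_centralizer_iff] <;> refine sup_le ?_ ?_
    · exact comm_le_centralizer hE.1
    · exact h1
    · exact le_centralizer_iff.mp h1
    · exact le_centralizer_iff_isMulCommutative.mpr inferInstance
  · intro w hw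
    obtain ⟨e, he, v, hv, rfl⟩ := mem_sup_of_normal_left.mp hw
    obtain ⟨i, rfl⟩ := mem_zpowers_iff.mp hv
    have hc : Commute e x := mem_centralizer_iff.mp hxC e he
    rw [(hc.zpow_right i).mul_pow, hE.2 e he, ← zpow_natCast, ← zpow_mul, mul_comm i, zpow_mul,
      zpow_natCast, hxp, one_zpow, one_mul]
  · exact lt_of_le_of_ne le_sup_left fun h => hxE (h.ge (mem_sup_right (mem_zpowers x)))

/-- S1452. -/
theorem exists_scn_three (hp2 : p ≠ 2) (hR : IsPGroup p R) (hr : ¬ PRankLE p 2 R) (E : Subgroup R)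
    [E.Normal] (hE : IsElementaryAbelian p E) (hEc : Nat.card E = p ^ 2)
    (hidx : (centralizer (E : Set R)).index ≤ p) :
    ∃ A : Subgroup R, E ≤ A ∧ A.Normal ∧ centralizer (A : Set R) = A ∧ ¬ PRankLE p 2 A := by
  obtain ⟨W, hW, hWn, hWe, hEW⟩ : ∃ W : Subgroup R, p ^ 2 < Nat.card W ∧ W.Normal ∧
      IsElementaryAbelian p W ∧ E ≤ W := by
    obtain ⟨F, hFc, hF, hF3⟩ : ∃ F : Subgroup R, IsMulCommutative F ∧ (∀ a ∈ F, a ^ p = 1) ∧
        p ^ 2 < Nat.card F := by
      simp only [PRankLE, not_forall, not_le] at hr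
      obtain ⟨F, h1, h2, h3⟩ := hr
      exact ⟨F, h1, h2, h3⟩
    obtain ⟨y, hy, hyp, hyE⟩ : ∃ y ∈ centralizer (E : Set R), y ^ p = 1 ∧ y ∉ E := by
      by_contra hno
      push Not at hno
      have hle : F ⊓ centralizer (E : Set R) ≤ E := fun y hy => hno y hy.2 (hF y hy.1)
      have h1 := Components.Sig.card_mul_relIndex (H := F ⊓ centralizer (E : Set R)) (K := F) inf_le_left
      rw [inf_relIndex_left] at h1
      have h2 : (centralizer (E : Set R)).relIndex F ≤ p :=
        le_trans (relIndex_top_right (centralizer (E : Set R)) ▸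
          relIndex_le_of_le_right le_top index_ne_zero_of_finite) hidx
      obtain ⟨k, hk⟩ := IsPGroup.iff_card.mp (hR.to_subgroup F)
      have hk3 : 3 ≤ k := by
        by_contra hlt
        push Not at hlt
        have := Nat.pow_le_pow_right hp.out.pos (show k ≤ 2 by omega)
        omega
      have h3 : p ^ 2 ≤ Nat.card (F ⊓ centralizer (E : Set R) : Subgroup R) := by
        refine Nat.le_of_mul_le_mul_right ?_ hp.out.pos
        calc p ^ 2 * p = p ^ 3 := by ring
          _ ≤ Nat.card F := hk ▸ Nat.pow_le_pow_right hp.out.pos hk3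
          _ = _ := h1.symm
          _ ≤ _ := Nat.mul_le_mul_left _ h2
      have heq : F ⊓ centralizer (E : Set R) = E := eq_of_le_of_card_ge hle (hEc ▸ h3)
      -- then `E ≤ F`, so `F` centralises `E`
      have hEF : E ≤ F := heq.ge.trans inf_le_left
      have hFC : F ≤ centralizer (E : Set R) := (comm_le_centralizer hFc).trans (centralizer_le hEF)
      rw [inf_eq_left.mpr hFC] at heq
      rw [heq, hEc] at hF3
      omega
    obtain ⟨W, h1, h2, h3⟩ := exists_larger_normal_elementary hp2 hR E hE hy hyp hyE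
    refine ⟨W, ?_, h1, h2, h3.le⟩
    rw [← hEc]
    exact Transfer.card_lt_of_subgroup_lt h3
  haveI := hWn
  obtain ⟨A, hWA, hAn, hAc, hCA⟩ := exists_selfCentralizing_normal hR W hWe.1
  exact ⟨A, hEW.trans hWA, hAn, hCA, not_pRankLE_of_elem hWA hWe hW⟩

/-- A `p`-subgroup of rank at least 3, `p` odd, has an `SCN₃`. -/
theorem exists_scn_three' {G : Type*} [Group G] [Finite G] (hp2 : p ≠ 2) {P : Subgroup G}
    (hP : IsPGroup p P) (hr : ¬ PRankLE p 2 P) :
    ∃ A : Subgroup G, IsSCN P A ∧ ¬ PRankLE p 2 A := by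
  have hnc : ¬ IsCyclic P := fun hc => by
    obtain ⟨E, hEP, hE, hEc⟩ := elem_of_not_pRankLE hr
    refine Components.Sig.not_cyclic hE (hEc ▸ Nat.pow_le_pow_right hp.out.pos (by norm_num)) ?_
    haveI := hc
    exact isCyclic_of_injective (inclusion hEP) (inclusion_injective _)
  obtain ⟨U, hUP, hUn, hU, hUc, -, hUi⟩ := exists_normal_pair hp2 hP hnc
  haveI : (U.subgroupOf P).Normal := (normal_subgroupOf_iff_le_normalizer hUP).mpr hUn
  obtain ⟨A, -, hAn, hCA, hA3⟩ := exists_scn_three hp2 hP hr (U.subgroupOf P)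
    ⟨⟨⟨fun a b => Subtype.ext (Subtype.ext (by
      simpa using elem_comm hU (mem_subgroupOf.mp a.2) (mem_subgroupOf.mp b.2)))⟩⟩,
      fun a ha => Subtype.ext (by simpa using hU.2 _ (mem_subgroupOf.mp ha))⟩
    (by rw [Coprime.card_subgroupOf hUP, hUc]) (by
      refine le_trans (le_of_eq ?_) hUi
      rw [relIndex]
      congr 1
      ext x
      simp only [mem_centralizer_iff, mem_subgroupOf, SetLike.mem_coe]
      exact ⟨fun h y hy => congrArg Subtype.val (h ⟨y, hUP hy⟩ hy),
        fun h y hy => Subtype.ext (h _ hy)⟩)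
  refine ⟨A.map P.subtype, ⟨map_subtype_le A, ?_, ?_⟩, ?_⟩
  · haveI := hAn
    have h := le_normalizer_map (H := A) P.subtype
    rwa [normalizer_eq_top, ← MonoidHom.range_eq_map, range_subtype] at h
  · refine le_antisymm ?_ (le_inf (map_subtype_le A) ?_)
    · rintro x ⟨hxP, hx⟩
      refine ⟨⟨x, hxP⟩, hCA.le (mem_centralizer_iff.mpr fun a ha => Subtype.ext ?_), rfl⟩
      exact mem_centralizer_iff.mp hx _ (mem_map_of_mem _ ha)
    · refine (map_mono hCA.ge).trans ?_
      rw [coe_map]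
      exact map_centralizer_le_centralizer_image _ _
  · obtain ⟨F, hFA, hF, hFc⟩ := elem_of_not_pRankLE hA3
    refine not_pRankLE_of_elem (E := F.map P.subtype) (map_mono hFA) ?_ ?_
    · haveI := hF.1
      refine ⟨map_isMulCommutative F P.subtype, ?_⟩
      rintro _ ⟨a, ha, rfl⟩
      rw [← map_pow, hF.2 a ha, map_one]
    · rw [card_map_of_injective P.subtype_injective, hFc]
      exact Nat.pow_lt_pow_right hp.out.one_lt (by norm_num)

end Cfsg.Agent.Lib.Uniq
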